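import Mathlib
import Cfsg.Agent.SignalizersComponents.CoprimeBasic
import Cfsg.Agent.S0215
import Cfsg.Prelude.Def_Involutions

/-!
# Frobenius systems (S4235): local analysis

`MS M` : `M` is maximal solvable; `Sys F` : a Frobenius system.
-/

set_option autoImplicit false

namespace Cfsg.Agent.H547.FrobSys

open scoped Pointwise commutatorElement
open Subgroup

universe u

variable {G : Type u} [Group G]

/-- maximal solvable subgroups -/
def MS (M : Subgroup G) : Prop := Group.IsSolvable M ∧ ∀ M' : Subgroup G, M < M' → ¬ Group.IsSolvable M'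

/-- Frobenius systems -/
structure Sys (F : Subgroup G → Subgroup G) : Prop where
  le : ∀ M, MS M → F M ≤ M
  nrm : ∀ M, MS M → M ≤ Subgroup.normalizer (F M : Set G)
  fpf : ∀ M, MS M → ∀ a ∈ M, a ∉ F M → ∀ x ∈ F M, x * a = a * x → x = 1
  ti : ∀ M, MS M → ∀ g : G, g ∉ M → F M ⊓ (MulAut.conj g • F M) = ⊥
  ne : ∀ M, MS M → F M ≠ ⊥ ∨ IsMulCommutative M

theorem exists_MS [Finite G] {K : Subgroup G} (hK : Group.IsSolvable K) : ∃ M, K ≤ M ∧ MS M := by
  obtain ⟨M, hM⟩ := (Set.toFinite {M : Subgroup G | K ≤ M ∧ Group.IsSolvable M}).exists_maximal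
    ⟨K, le_rfl, hK⟩
  refine ⟨M, hM.prop.1, hM.prop.2, ?_⟩
  intro M' hlt hs
  exact hlt.not_ge (hM.le_of_ge ⟨hM.prop.1.trans hlt.le, hs⟩ hlt.le)

variable {F : Subgroup G → Subgroup G}

theorem conj_mem_smul {A : Subgroup G} {x : G} (g : G) (hx : x ∈ A) :
    g * x * g⁻¹ ∈ MulAut.conj g • A :=
  Subgroup.smul_mem_pointwise_smul x (MulAut.conj g) A hx

theorem Sys.conj_mem (h : Sys F) {M : Subgroup G} (hM : MS M) {g x : G} (hg : g ∈ M) (hx : x ∈ F M) :
    g * x * g⁻¹ ∈ F M :=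
  (Subgroup.mem_normalizer_iff.mp (h.nrm M hM hg) x).mp hx

/-- `F(M) ∩ F(M)^g = 1` elementwise. -/
theorem Sys.eq_one (h : Sys F) {M : Subgroup G} (hM : MS M) {g x : G} (hg : g ∉ M) (hx : x ∈ F M)
    (hx' : g * x * g⁻¹ ∈ F M) : x = 1 := by
  have h1 : g * x * g⁻¹ ∈ F M ⊓ (MulAut.conj g • F M) := ⟨hx', conj_mem_smul g hx⟩
  rw [h.ti M hM g hg, Subgroup.mem_bot] at h1
  rw [mul_inv_eq_one] at h1
  exact mul_eq_left.mp h1

theorem Sys.cent (h : Sys F) {M : Subgroup G} (hM : MS M) {x g : G} (hx : x ∈ F M) (hx1 : x ≠ 1)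
    (hc : x * g = g * x) : g ∈ F M := by
  have hgM : g ∈ M := by
    by_contra hg
    apply hx1
    refine h.eq_one hM hg hx ?_
    rw [← hc]
    simpa using hx
  by_contra hgF
  exact hx1 (h.fpf M hM g hgM hgF x hx hc)

/-- If all the maximal solvable subgroups containing the Sylow `2`-subgroup `P` are abelian, `G` is
solvable. -/
theorem solvable_of_comm [Finite G] (FT : ∀ (K : Type u) [Group K] [Finite K], Odd (Nat.card K) → Group.IsSolvable K)
    (P : Sylow 2 G) (hall : ∀ M : Subgroup G, MS M → (P : Subgroup G) ≤ M → IsMulCommutative M) :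
    Group.IsSolvable G := by
  have hPs : Group.IsSolvable (P : Subgroup G) := by
    have := P.2.isNilpotent
    infer_instance
  have hN : Subgroup.normalizer (P : Set G) ≤ Subgroup.centralizer (P : Set G) := by
    intro y hy
    have h1 : Subgroup.zpowers y ≤ Subgroup.normalizer ((P : Subgroup G) : Set G) :=
      Subgroup.zpowers_le.mpr hy
    have hys : Group.IsSolvable (Subgroup.zpowers y) := Group.isSolvable_of_comm fun a b =>
      (inferInstance : IsMulCommutative (Subgroup.zpowers y)).is_comm.comm a b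
    have h2 : Group.IsSolvable ↥((P : Subgroup G) ⊔ Subgroup.zpowers y) :=
      Cfsg.Agent.SignalizersComponents.CoprimeBasic.isSolvable_sup h1 hPs hys
    obtain ⟨M, hKM, hM⟩ := exists_MS h2
    have hc := hall M hM (le_sup_left.trans hKM)
    have hyM : y ∈ M := hKM ((le_sup_right : Subgroup.zpowers y ≤ _) (Subgroup.mem_zpowers y))
    rw [Subgroup.mem_centralizer_iff]
    intro x hx
    have hxM : x ∈ M := hKM ((le_sup_left : (P : Subgroup G) ≤ _) hx)
    exact congrArg Subtype.val (hc.is_comm.comm (⟨x, hxM⟩ : M) ⟨y, hyM⟩)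
  have hcomp := MonoidHom.ker_transferSylow_isComplement' P hN
  have hodd : ¬ 2 ∣ Nat.card (MonoidHom.transferSylow P hN).ker :=
    MonoidHom.not_dvd_card_ker_transferSylow P hN
  have h1 : Group.IsSolvable (MonoidHom.transferSylow P hN).ker :=
    FT _ (Nat.not_even_iff_odd.mp (fun h => hodd (even_iff_two_dvd.mp h)))
  exact Group.isSolvable_of_ker_le_range (MonoidHom.transferSylow P hN).ker.subtype
    (MonoidHom.transferSylow P hN) (by simp)

/-- No abelian normal subgroups. -/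
theorem Sys.eq_bot_of_abelian [Finite G]
    (FT : ∀ (K : Type u) [Group K] [Finite K], Odd (Nat.card K) → Group.IsSolvable K)
    (h : Sys F) (hns : ¬ Group.IsSolvable G) (A : Subgroup G) (hA : A.Normal)
    (hc : ∀ x ∈ A, ∀ y ∈ A, x * y = y * x) : A = ⊥ := by
  by_contra hA1
  have hAs : Group.IsSolvable A :=
    Group.isSolvable_of_comm fun a b => Subtype.ext (hc a a.2 b b.2)
  have hAM : ∀ M : Subgroup G, MS M → A ≤ M := by
    intro M hM
    have h1 : Group.IsSolvable ↥(A ⊔ M) :=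
      Cfsg.Agent.SignalizersComponents.CoprimeBasic.isSolvable_sup
        (by rw [Subgroup.normalizer_eq_top A]; exact le_top) hAs hM.1
    by_contra h2
    have h3 : M < A ⊔ M := by
      rw [right_lt_sup]
      exact h2
    exact hM.2 _ h3 h1
  have hFM : ∀ M : Subgroup G, MS M → F M = ⊥ := by
    intro M hM
    by_contra hF
    obtain ⟨f, hf, hf1⟩ : ∃ f ∈ F M, f ≠ 1 := by
      by_contra hcon
      push Not at hcon
      exact hF ((Subgroup.eq_bot_iff_forall _).mpr hcon)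
    -- a nontrivial element in the intersection
    obtain ⟨x, hxA, hxF, hx1⟩ : ∃ x ∈ A, x ∈ F M ∧ x ≠ 1 := by
      by_contra hcon
      push Not at hcon
      -- then `A` centralises `F M`
      have h1 : ∀ a ∈ A, f * a = a * f := by
        intro a ha
        have h2 : a * f * a⁻¹ * f⁻¹ ∈ F M :=
          mul_mem (h.conj_mem hM (hAM M hM ha) hf) (inv_mem hf)
        have h3 : a * f * a⁻¹ * f⁻¹ ∈ A := by
          have h4 : f * a⁻¹ * f⁻¹ ∈ A := hA.conj_mem _ (inv_mem ha) f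
          have h5 : a * f * a⁻¹ * f⁻¹ = a * (f * a⁻¹ * f⁻¹) := by group
          rw [h5]
          exact mul_mem ha h4
        have h4 := hcon _ h3 h2
        rw [mul_inv_eq_one, mul_inv_eq_iff_eq_mul] at h4
        exact h4.symm
      obtain ⟨a, ha, ha1⟩ : ∃ a ∈ A, a ≠ 1 := by
        by_contra hcon2
        push Not at hcon2
        exact hA1 ((Subgroup.eq_bot_iff_forall _).mpr hcon2)
      exact ha1 (hcon a ha (h.cent hM hf hf1 (h1 a ha)))
    have hAF : A ≤ F M := fun a ha => h.cent hM hxF hx1 (hc x hxA a ha)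
    have hMtop : ∀ g : G, g ∈ M := by
      intro g
      by_contra hg
      exact hx1 (h.eq_one hM hg hxF (hAF (hA.conj_mem x hxA g)))
    apply hns
    have h1 : M = ⊤ := (Subgroup.eq_top_iff' M).mpr hMtop
    have h2 := hM.1
    rw [h1] at h2
    exact Group.isSolvable_of_surjective (f := (⊤ : Subgroup G).subtype) (fun g => ⟨⟨g, trivial⟩, rfl⟩)
  obtain ⟨P⟩ : Nonempty (Sylow 2 G) := inferInstance
  exact hns (solvable_of_comm FT P fun M hM _ => (h.ne M hM).resolve_left (fun h1 => h1 (hFM M hM)))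

/-- No solvable normal subgroups. -/
theorem Sys.eq_bot_of_solvable [Finite G]
    (FT : ∀ (K : Type u) [Group K] [Finite K], Odd (Nat.card K) → Group.IsSolvable K)
    (h : Sys F) (hns : ¬ Group.IsSolvable G) (N : Subgroup G) (hN : N.Normal)
    (hs : Group.IsSolvable N) : N = ⊥ := by
  classical
  by_contra hN1
  obtain ⟨n, hn⟩ := hs.solvable
  have hex : ∃ n, derivedSeries N n = ⊥ := ⟨n, hn⟩
  set k := Nat.find hex with hk
  have hk1 : derivedSeries N k = ⊥ := Nat.find_spec hex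
  have hk0 : k ≠ 0 := by
    intro h0
    rw [h0, derivedSeries_zero] at hk1
    apply hN1
    rw [Subgroup.eq_bot_iff_forall]
    intro x hx
    have h1 : (⟨x, hx⟩ : N) ∈ (⊤ : Subgroup N) := Subgroup.mem_top _
    rw [hk1, Subgroup.mem_bot] at h1
    exact congrArg Subtype.val h1
  obtain ⟨j, hj⟩ : ∃ j, k = j + 1 := ⟨k - 1, by omega⟩
  have hj1 : derivedSeries N j ≠ ⊥ := Nat.find_min hex (by omega)
  rw [hj, derivedSeries_succ] at hk1
  have hchar : (derivedSeries N j).Characteristic := derivedSeries_characteristic N j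
  have hAn : ((derivedSeries N j).map N.subtype).Normal := ConjAct.normal_of_characteristic_of_normal
  have h1 := h.eq_bot_of_abelian FT hns _ hAn (by
    rintro _ ⟨x, hx, rfl⟩ _ ⟨y, hy, rfl⟩
    have h2 : ⁅x, y⁆ ∈ (⊥ : Subgroup N) := hk1 ▸ Subgroup.commutator_mem_commutator hx hy
    rw [Subgroup.mem_bot, commutatorElement_eq_one_iff_mul_comm] at h2
    exact congrArg Subtype.val h2)
  exact hj1 ((Subgroup.map_eq_bot_iff_of_injective _ N.subtype_injective).mp h1)

/-- The Sylow `2`-subgroups are not of rank one. -/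
theorem Sys.exists_four [Finite G]
    (FT : ∀ (K : Type u) [Group K] [Finite K], Odd (Nat.card K) → Group.IsSolvable K)
    (h : Sys F) (hns : ¬ Group.IsSolvable G) (P : Sylow 2 G) :
    ∃ x ∈ P, ∃ y ∈ P, x ≠ 1 ∧ y ≠ 1 ∧ x ≠ y ∧ x * x = 1 ∧ y * y = 1 ∧ x * y = y * x := by
  by_contra hcon
  push Not at hcon
  have hev : Even (Nat.card G) := by
    by_contra h1
    exact hns (FT G (Nat.not_even_iff_odd.mp h1))
  have hP1 : (P : Subgroup G) ≠ ⊥ := by
    intro h1
    have h2 : 2 ∣ Nat.card (P : Subgroup G) := P.dvd_card_of_dvd_card (even_iff_two_dvd.mp hev)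
    rw [h1, Subgroup.card_bot] at h2
    norm_num at h2
  have hPnt : Nontrivial (P : Subgroup G) := (Subgroup.nontrivial_iff_ne_bot _).mpr hP1
  have hZ : Nontrivial (Subgroup.center (P : Subgroup G)) := P.2.center_nontrivial
  have hZp : IsPGroup 2 (Subgroup.center (P : Subgroup G)) := P.2.to_subgroup _
  obtain ⟨⟨⟨z, hzP⟩, hzZ⟩, hz⟩ : ∃ z : Subgroup.center (P : Subgroup G), orderOf z = 2 := by
    have h1 : 2 ∣ Nat.card (Subgroup.center (P : Subgroup G)) := by
      rcases hZp.card_eq_or_dvd with h2 | h2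
      · exact absurd h2 (Finite.one_lt_card_iff_nontrivial.mpr hZ).ne'
      · exact h2
    exact exists_prime_orderOf_dvd_card' 2 h1
  rw [Subgroup.orderOf_mk, Subgroup.orderOf_mk] at hz
  have hz1 : z ≠ 1 := by
    rintro rfl
    rw [orderOf_one] at hz
    norm_num at hz
  have hzz : z * z = 1 := by
    rw [← pow_two, ← hz, pow_orderOf_eq_one]
  have hzc : ∀ x ∈ P, x * z = z * x := by
    intro x hx
    exact congrArg Subtype.val (Subgroup.mem_center_iff.mp hzZ ⟨x, hx⟩)
  obtain ⟨N, hN, hNodd, hNc⟩ := Cfsg.Agent.S0215.result P z hz hzP (by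
    intro g hg
    by_contra hne
    refine hcon (g * z * g⁻¹) hg z hzP ?_ hz1 hne ?_ hzz (hzc _ hg)
    · intro h1
      apply hz1
      rw [mul_inv_eq_one] at h1
      exact mul_eq_left.mp h1
    · calc g * z * g⁻¹ * (g * z * g⁻¹) = g * (z * z) * g⁻¹ := by group
        _ = 1 := by rw [hzz]; group)
  have hNb : N = ⊥ := h.eq_bot_of_solvable FT hns N hN (FT N hNodd)
  have hzcen : ∀ g : G, z * g = g * z := by
    intro g
    have h1 := hNc g
    rw [hNb, Subgroup.mem_bot, mul_inv_eq_one, mul_inv_eq_iff_eq_mul] at h1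
    exact h1
  have h1 := h.eq_bot_of_abelian FT hns (Subgroup.center G) inferInstance (by
    intro x _ y hy
    exact (Subgroup.mem_center_iff.mp hy x))
  have h2 : z ∈ Subgroup.center G := Subgroup.mem_center_iff.mpr fun g => (hzcen g).symm
  rw [h1, Subgroup.mem_bot] at h2
  exact hz1 h2

/-- An element of `M ∖ F(M)` whose square is one inverts `F(M)`. -/
theorem Sys.surj [Finite G] (h : Sys F) {M : Subgroup G} (hM : MS M) {a : G} (haM : a ∈ M)
    (haF : a ∉ F M) {f : G} (hf : f ∈ F M) : ∃ v ∈ F M, v⁻¹ * (a * v * a⁻¹) = f := by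
  let φ : F M → F M := fun v => ⟨(v : G)⁻¹ * (a * v * a⁻¹),
    mul_mem (inv_mem v.2) (h.conj_mem hM haM v.2)⟩
  have hinj : Function.Injective φ := by
    rintro ⟨v, hv⟩ ⟨w, hw⟩ hvw
    have h1 : v⁻¹ * (a * v * a⁻¹) = w⁻¹ * (a * w * a⁻¹) := congrArg Subtype.val hvw
    have h2 : (v * w⁻¹) * a = a * (v * w⁻¹) := by
      have h3 : w * v⁻¹ * (a * v * a⁻¹) = a * w * a⁻¹ := by
        rw [mul_assoc, h1]; group
      have h4 : a * (v * w⁻¹) = (v * w⁻¹) * (w * v⁻¹ * (a * v * a⁻¹)) * (a * w⁻¹) := by group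
      rw [h4, h3]; group
    have h3 := h.fpf M hM a haM haF (v * w⁻¹) (mul_mem hv (inv_mem hw)) h2
    exact Subtype.ext (mul_inv_eq_one.mp h3)
  obtain ⟨⟨v, hv⟩, hv'⟩ := (Finite.injective_iff_surjective.mp hinj) ⟨f, hf⟩
  exact ⟨v, hv, congrArg Subtype.val hv'⟩

theorem Sys.inverts [Finite G] (h : Sys F) {M : Subgroup G} (hM : MS M) {a : G} (haM : a ∈ M)
    (haF : a ∉ F M) (ha2 : a * a = 1) {f : G} (hf : f ∈ F M) : a * f * a⁻¹ = f⁻¹ := by
  obtain ⟨v, hv, rfl⟩ := h.surj hM haM haF hf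
  have ha : a⁻¹ = a := inv_eq_of_mul_eq_one_right ha2
  rw [ha]
  calc a * (v⁻¹ * (a * v * a)) * a = (a * v⁻¹ * a) * v * (a * a) := by group
    _ = (v⁻¹ * (a * v * a⁻¹))⁻¹ := by
      rw [ha2, mul_one, ha]
      rw [mul_inv_rev, mul_inv_rev, mul_inv_rev, ha, inv_inv]
      group
    _ = _ := by rw [ha]

/-- The Sylow `2`-subgroup of `M` is in `F(M)`. -/
theorem Sys.sylow_le [Finite G]
    (FT : ∀ (K : Type u) [Group K] [Finite K], Odd (Nat.card K) → Group.IsSolvable K)
    (h : Sys F) (hns : ¬ Group.IsSolvable G) (P : Sylow 2 G) {M : Subgroup G} (hM : MS M)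
    (hPM : (P : Subgroup G) ≤ M) (hF : F M ≠ ⊥) : (P : Subgroup G) ≤ F M := by
  obtain ⟨w, hwP, hwF, hw1⟩ : ∃ w ∈ P, w ∈ F M ∧ w ≠ 1 := by
    by_contra hcon
    push Not at hcon
    obtain ⟨x, hx, y, hy, hx1, hy1, hxy, hxx, hyy, hc⟩ := h.exists_four FT hns P
    obtain ⟨f, hf, hf1⟩ : ∃ f ∈ F M, f ≠ 1 := by
      by_contra hcon
      push Not at hcon
      exact hF ((Subgroup.eq_bot_iff_forall _).mpr hcon)
    have hxF : x ∉ F M := fun h1 => hx1 (hcon x hx h1)
    have hyF : y ∉ F M := fun h1 => hy1 (hcon y hy h1)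
    have hxyF : x * y ∉ F M := by
      intro h1
      have h2 := hcon (x * y) (mul_mem hx hy) h1
      apply hxy
      have h3 : x⁻¹ = x := inv_eq_of_mul_eq_one_right hxx
      rw [← h3]
      exact (inv_eq_of_mul_eq_one_right h2)
    have h1 := h.inverts hM (hPM hx) hxF hxx (inv_mem hf)
    have h2 := h.inverts hM (hPM hy) hyF hyy hf
    apply hf1
    refine h.fpf M hM (x * y) (hPM (mul_mem hx hy)) hxyF f hf ?_
    rw [inv_inv] at h1
    have h3 : x * y * f * (x * y)⁻¹ = f := by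
      calc x * y * f * (x * y)⁻¹ = x * (y * f * y⁻¹) * x⁻¹ := by group
        _ = f := by rw [h2, h1]
    rw [mul_inv_eq_iff_eq_mul] at h3
    exact h3.symm
  have hPnt : Nontrivial (P : Subgroup G) := ⟨⟨w, hwP⟩, 1, fun h1 => hw1 (congrArg Subtype.val h1)⟩
  have hZ : Nontrivial (Subgroup.center (P : Subgroup G)) := P.2.center_nontrivial
  obtain ⟨⟨⟨z, hzP⟩, hzZ⟩, hz⟩ := exists_ne (1 : Subgroup.center (P : Subgroup G))
  have hz1 : z ≠ 1 := by
    rintro rfl
    exact hz rfl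
  have hzc : ∀ x ∈ P, x * z = z * x := by
    intro x hx
    exact congrArg Subtype.val (Subgroup.mem_center_iff.mp hzZ ⟨x, hx⟩)
  have hzF : z ∈ F M := h.cent hM hwF hw1 (hzc w hwP)
  intro x hx
  exact h.cent hM hzF hz1 (hzc x hx).symm

/-- Elements of `M` of square one are in `F(M)`. -/
theorem Sys.mem_of_sq [Finite G] (h : Sys F) {M : Subgroup G} (hM : MS M) (P : Sylow 2 G)
    (hPF : (P : Subgroup G) ≤ F M) {t : G} (ht : t ∈ M) (htt : t * t = 1) : t ∈ F M := by
  have hn : ((F M).subgroupOf M).Normal :=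
    (Subgroup.normal_subgroupOf_iff_le_normalizer (h.le M hM)).mpr (h.nrm M hM)
  have h1 : ¬ 2 ∣ (F M).index := fun h1 =>
    P.not_dvd_index (h1.trans (Subgroup.index_dvd_of_le hPF))
  have h2 : ¬ 2 ∣ ((F M).subgroupOf M).index := by
    intro h2
    apply h1
    rw [← Subgroup.relIndex_mul_index (h.le M hM)]
    exact Dvd.dvd.mul_right h2 _
  obtain ⟨k, hk⟩ : ∃ k, ((F M).subgroupOf M).index = 2 * k + 1 := by
    rw [← even_iff_two_dvd, Nat.not_even_iff_odd] at h2
    exact h2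
  have h3 : (⟨t, ht⟩ : M) ^ ((F M).subgroupOf M).index ∈ (F M).subgroupOf M :=
    Subgroup.pow_index_mem _ _
  rw [hk, pow_succ, pow_mul] at h3
  have h4 : (⟨t, ht⟩ : M) ^ 2 = 1 := by
    rw [pow_two]
    exact Subtype.ext htt
  rw [h4, one_pow, one_mul] at h3
  exact h3

/-- An element of prime order `p` of `M ∖ F(M)`: `p ∤ |F(M)|`. -/
theorem Sys.not_dvd [Finite G] (h : Sys F) {M : Subgroup G} (hM : MS M) {p : ℕ} (hp : p.Prime)
    {a : G} (haM : a ∈ M) (haF : a ∉ F M) (hap : a ^ p = 1) : ¬ p ∣ Nat.card (F M) := by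
  have := Fact.mk hp
  intro hdvd
  have hpg : IsPGroup p (Subgroup.zpowers a) :=
    IsPGroup.of_card_dvd_pow (n := 1)
      (by rw [Nat.card_zpowers, pow_one]; exact orderOf_dvd_of_pow_eq_one hap)
  have hle : Subgroup.zpowers a ≤ Subgroup.normalizer (F M : Set G) :=
    Subgroup.zpowers_le.mpr (h.nrm M hM haM)
  let _ : MulAction (Subgroup.zpowers a) (F M) :=
    { smul := fun g x => ⟨(g : G) * x * (g : G)⁻¹,
        (Subgroup.mem_normalizer_iff.mp (hle g.2) x).mp x.2⟩
      one_smul := fun x => Subtype.ext (by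
        change (1 : G) * x * (1 : G)⁻¹ = x
        group)
      mul_smul := fun g g' x => Subtype.ext (by
        change ((g : G) * g') * x * ((g : G) * g')⁻¹ = g * (g' * x * (g' : G)⁻¹) * (g : G)⁻¹
        group) }
  have h1 := hpg.card_modEq_card_fixedPoints (F M)
  have h2 : Nat.card (MulAction.fixedPoints (Subgroup.zpowers a) (F M)) = 1 := by
    rw [Nat.card_eq_one_iff_exists]
    refine ⟨⟨1, fun g => Subtype.ext ?_⟩, ?_⟩
    · change (g : G) * 1 * (g : G)⁻¹ = 1
      group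
    · rintro ⟨⟨x, hx⟩, hfix⟩
      apply Subtype.ext
      apply Subtype.ext
      have h3 : a * x * a⁻¹ = x := congrArg Subtype.val (hfix ⟨a, Subgroup.mem_zpowers a⟩)
      refine h.fpf M hM a haM haF x hx ?_
      rw [mul_inv_eq_iff_eq_mul] at h3
      exact h3.symm
  rw [h2] at h1
  have h3 := (Nat.modEq_zero_iff_dvd.mpr hdvd).symm.trans h1
  have h4 : p ∣ 1 := (Nat.modEq_zero_iff_dvd).mp h3.symm
  exact hp.one_lt.ne' (Nat.dvd_one.mp h4)

/-- `F(M) ∩ M^u = 1` for `u ∉ M`. -/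
theorem Sys.inf_conj [Finite G] (h : Sys F) {M : Subgroup G} (hM : MS M) {u x : G} (hu : u ∉ M)
    (hx : x ∈ F M) (hx' : u⁻¹ * x * u ∈ M) : x = 1 := by
  by_contra hx1
  -- pass to prime order
  obtain ⟨p, hp, hpd⟩ := Nat.exists_prime_and_dvd (n := orderOf x)
    (fun h1 => hx1 (orderOf_eq_one_iff.mp h1))
  have := Fact.mk hp
  set y := x ^ (orderOf x / p) with hy
  have hyo : orderOf y = p := orderOf_pow_orderOf_div (orderOf_pos x).ne' hpd
  have hy1 : y ≠ 1 := by
    intro h1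
    rw [h1, orderOf_one] at hyo
    exact hp.one_lt.ne hyo
  have hyF : y ∈ F M := pow_mem hx _
  have hyM : u⁻¹ * y * u ∈ M := by
    have h1 : u⁻¹ * y * u = (u⁻¹ * x * u) ^ (orderOf x / p) := by
      have h2 := conj_pow (a := u⁻¹) (b := x) (i := orderOf x / p)
      rw [inv_inv] at h2
      rw [h2]
    rw [h1]
    exact pow_mem hx' _
  have hyF' : u⁻¹ * y * u ∉ F M := by
    intro h1
    have h2 : u⁻¹ ∉ M := fun h3 => hu (inv_mem_iff.mp h3)
    apply hy1
    refine h.eq_one hM h2 hyF ?_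
    rw [inv_inv]
    exact h1
  have h1 : (u⁻¹ * y * u) ^ p = 1 := by
    have h2 := conj_pow (a := u⁻¹) (b := y) (i := p)
    rw [inv_inv] at h2
    rw [h2, ← hyo, pow_orderOf_eq_one]
    group
  refine h.not_dvd hM hp hyM hyF' h1 ?_
  rw [← hyo]
  exact Subgroup.orderOf_dvd_natCard _ hyF

end Cfsg.Agent.H547.FrobSys
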