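import Cfsg.Agent.H547.FrobSys
import Cfsg.Agent.S1225
import Cfsg.Agent.S1141
import Cfsg.Agent.S1136
import Cfsg.Agent.S1220
import Cfsg.Agent.HKS.EndOrd
import Cfsg.Agent.WeakTI.PslTwo
import Cfsg.Prelude.Def_LieRecognition

/-!
# Frobenius systems (S4235): the strongly embedded subgroup `M` and the rank one set-up
-/

set_option autoImplicit false

namespace Cfsg.Agent.H547.FrobSys

open scoped Pointwise commutatorElement
open Subgroup

universe u

variable {G : Type u} [Group G] {F : Subgroup G → Subgroup G}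

/-- The situation: `M` is maximal solvable and `F(M)` contains the Sylow `2`-subgroup `P`. -/
structure Ctx (F : Subgroup G → Subgroup G) (M : Subgroup G) (P : Sylow 2 G) : Prop where
  FT : ∀ (K : Type u) [Group K] [Finite K], Odd (Nat.card K) → Group.IsSolvable K
  sys : Sys F
  hns : ¬ Group.IsSolvable G
  hM : MS M
  hPF : (P : Subgroup G) ≤ F M

variable {M : Subgroup G} {P : Sylow 2 G}

theorem Ctx.ne_top (c : Ctx F M P) : M ≠ ⊤ := by
  intro h1
  apply c.hns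
  have h2 := c.hM.1
  rw [h1] at h2
  exact Group.isSolvable_of_surjective (f := (⊤ : Subgroup G).subtype) (fun g => ⟨⟨g, trivial⟩, rfl⟩)

theorem Ctx.exists_inv [Finite G] (c : Ctx F M P) : ∃ x ∈ P, ∃ y ∈ P, x ≠ 1 ∧ y ≠ 1 ∧ x ≠ y ∧
    x * x = 1 ∧ y * y = 1 ∧ x * y = y * x := c.sys.exists_four c.FT c.hns P

theorem Ctx.even_F [Finite G] (c : Ctx F M P) : Even (Nat.card (F M)) := by
  obtain ⟨x, hx, y, hy, hx1, hy1, hxy, hxx, hyy, hc⟩ := c.exists_inv
  have h1 : orderOf x = 2 := orderOf_eq_prime (by rw [pow_two]; exact hxx) hx1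
  rw [even_iff_two_dvd, ← h1]
  exact Subgroup.orderOf_dvd_natCard _ (c.hPF hx)

theorem Ctx.mem_F [Finite G] (c : Ctx F M P) {t : G} (ht : t ∈ M) (htt : t * t = 1) : t ∈ F M :=
  c.sys.mem_of_sq c.hM P c.hPF ht htt

theorem Ctx.strong [Finite G] (c : Ctx F M P) : Cfsg.IsStronglyEmbedded M := by
  refine ⟨c.ne_top, ?_, ?_⟩
  · exact even_iff_two_dvd.mpr ((even_iff_two_dvd.mp c.even_F).trans
      (Subgroup.card_dvd_of_le (c.sys.le M c.hM)))
  · intro g hg
    by_contra hcon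
    rw [Nat.not_odd_iff_even, even_iff_two_dvd] at hcon
    have := Fact.mk Nat.prime_two
    obtain ⟨⟨t, htMM⟩, ht⟩ := exists_prime_orderOf_dvd_card' 2 hcon
    rw [Subgroup.orderOf_mk] at ht
    obtain ⟨htM, ht'⟩ := Subgroup.mem_inf.mp htMM
    have htt : t * t = 1 := by
      rw [← pow_two, ← ht, pow_orderOf_eq_one]
    obtain ⟨s, hs, hst⟩ := ht'
    have hst' : g * s * g⁻¹ = t := hst
    have hss : s * s = 1 := by
      have h1 : s = g⁻¹ * t * g := by rw [← hst']; group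
      rw [h1]
      calc g⁻¹ * t * g * (g⁻¹ * t * g) = g⁻¹ * (t * t) * g := by group
        _ = 1 := by rw [htt]; group
    have h1 := c.sys.eq_one c.hM hg (c.mem_F hs hss) (by rw [hst']; exact c.mem_F htM htt)
    rw [h1, mul_one, mul_inv_cancel] at hst'
    rw [← hst', orderOf_one] at ht
    norm_num at ht

/-- there is an involution outside `M` -/
theorem Ctx.exists_u [Finite G] (c : Ctx F M P) : ∃ u : G, u ∉ M ∧ u * u = 1 ∧ u ≠ 1 := by
  obtain ⟨x, hx, y, hy, hx1, hy1, hxy, hxx, hyy, hc⟩ := c.exists_inv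
  obtain ⟨g, hg⟩ : ∃ g, g ∉ M := by
    by_contra hcon
    push Not at hcon
    exact c.ne_top ((Subgroup.eq_top_iff' M).mpr hcon)
  have hgx : (g * x * g⁻¹) * (g * x * g⁻¹) = 1 := by
    calc g * x * g⁻¹ * (g * x * g⁻¹) = g * (x * x) * g⁻¹ := by group
      _ = 1 := by rw [hxx]; group
  refine ⟨g * x * g⁻¹, ?_, hgx, ?_⟩
  · intro h1
    exact hx1 (c.sys.eq_one c.hM hg (c.hPF hx) (c.mem_F h1 hgx))
  · intro h1
    rw [mul_inv_eq_one] at h1
    exact hx1 (mul_eq_left.mp h1)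

theorem mem_map_conj {A : Subgroup G} {g x : G} :
    x ∈ A.map (MulAut.conj g).toMonoidHom ↔ g⁻¹ * x * g ∈ A := by
  constructor
  · rintro ⟨y, hy, rfl⟩
    change g⁻¹ * (g * y * g⁻¹) * g ∈ A
    have h1 : g⁻¹ * (g * y * g⁻¹) * g = y := by group
    rw [h1]
    exact hy
  · intro h1
    refine ⟨g⁻¹ * x * g, h1, ?_⟩
    change g * (g⁻¹ * x * g) * g⁻¹ = x
    group

/-- `F(M) ∩ D = 1` -/
theorem Ctx.inf_D [Finite G] (c : Ctx F M P) {u x : G} (hu : u ∉ M) (hx : x ∈ F M)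
    (hxD : x ∈ M ⊓ M.map (MulAut.conj u).toMonoidHom) : x = 1 :=
  c.sys.inf_conj c.hM hu hx (mem_map_conj.mp hxD.2)

theorem orderOf_two {x : G} (hx1 : x ≠ 1) (hxx : x * x = 1) : orderOf x = 2 :=
  orderOf_eq_prime (by rw [pow_two]; exact hxx) hx1

/-- `M = F(M) D`: each element of `M` is `f d` -/
theorem Ctx.exists_mul [Finite G] (c : Ctx F M P) {u : G} (hu : u ∉ M) (huu : u * u = 1)
    (hu1 : u ≠ 1) {m : G} (hm : m ∈ M) : ∃ d ∈ M ⊓ M.map (MulAut.conj u).toMonoidHom,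
    ∃ f ∈ F M, m = d * f := by
  obtain ⟨s, hs, y, hy, hs1, hy1, hsy, hss, hyy, -⟩ := c.exists_inv
  have hsF := c.hPF hs
  have hsM := c.sys.le M c.hM hsF
  have hmsM : m * s * m⁻¹ ∈ M := mul_mem (mul_mem hm hsM) (inv_mem hm)
  have hms2 : (m * s * m⁻¹) * (m * s * m⁻¹) = 1 := by
    calc m * s * m⁻¹ * (m * s * m⁻¹) = m * (s * s) * m⁻¹ := by group
      _ = 1 := by rw [hss]; group
  have hms1 : m * s * m⁻¹ ≠ 1 := by
    intro h1
    rw [mul_inv_eq_one] at h1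
    exact hs1 (mul_eq_left.mp h1)
  obtain ⟨⟨d, hd, hds⟩, -⟩ := Cfsg.Agent.S1225.result M c.strong u (orderOf_two hu1 huu) hu s
    (m * s * m⁻¹) (orderOf_two hs1 hss) hsM (orderOf_two hms1 hms2) hmsM
  refine ⟨d, hd, d⁻¹ * m, ?_, by group⟩
  refine c.sys.cent c.hM hsF hs1 ?_
  have h1 : d * s = m * s * m⁻¹ * d := by
    rw [← hds]; group
  calc s * (d⁻¹ * m) = d⁻¹ * (d * s) * (d⁻¹ * m) := by group
    _ = d⁻¹ * m * s := by rw [h1]; group

/-! ### a normal subgroup of odd index is everything -/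

theorem sq_mem_of_odd [Finite G] {L : Subgroup G} (hL : L.Normal) (hodd : Odd L.index) {t : G}
    (htt : t * t = 1) : t ∈ L := by
  obtain ⟨k, hk⟩ := hodd
  have h3 : t ^ L.index ∈ L := Subgroup.pow_index_mem _ _
  rw [hk, pow_succ, pow_mul, pow_two, htt, one_pow, one_mul] at h3
  exact h3

theorem Ctx.eq_top [Finite G] (c : Ctx F M P) {u : G} (hu : u ∉ M) (huu : u * u = 1)
    (hu1 : u ≠ 1) {L : Subgroup G} (hL : L.Normal) (hodd : Odd L.index) : L = ⊤ := by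
  obtain ⟨s, hs, y, hy, hs1, hy1, hsy, hss, hyy, -⟩ := c.exists_inv
  have hsM := c.sys.le M c.hM (c.hPF hs)
  have hyM := c.sys.le M c.hM (c.hPF hy)
  set D := M ⊓ M.map (MulAut.conj u).toMonoidHom with hD
  have huL : u ∈ L := sq_mem_of_odd hL hodd huu
  -- `L ∩ M` is strongly embedded in `L`
  have hse : Cfsg.IsStronglyEmbedded (M.subgroupOf L) := by
    refine ⟨?_, ?_, ?_⟩
    · intro h1
      have h2 : (⟨u, huL⟩ : L) ∈ M.subgroupOf L := by rw [h1]; exact Subgroup.mem_top _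
      exact hu h2
    · have h1 : orderOf (⟨⟨s, sq_mem_of_odd hL hodd hss⟩, hsM⟩ : M.subgroupOf L) = 2 := by
        apply orderOf_two
        · intro h2
          exact hs1 (congrArg (fun x : M.subgroupOf L => ((x : L) : G)) h2)
        · exact Subtype.ext (Subtype.ext hss)
      rw [even_iff_two_dvd, ← h1]
      exact orderOf_dvd_natCard _
    · intro g hg
      have hg' : (g : G) ∉ M := hg
      have h1 := c.strong.2.2 g hg'
      have h2 : Nat.card ↥(M.subgroupOf L ⊓ (M.subgroupOf L).map (MulAut.conj g).toMonoidHom) ∣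
          Nat.card ↥(M ⊓ M.map (MulAut.conj (g : G)).toMonoidHom) := by
        have h3 : (M.subgroupOf L ⊓ (M.subgroupOf L).map (MulAut.conj g).toMonoidHom).map L.subtype ≤
            M ⊓ M.map (MulAut.conj (g : G)).toMonoidHom := by
          rintro _ ⟨x, hx, rfl⟩
          obtain ⟨hx1, hx2⟩ := Subgroup.mem_inf.mp hx
          refine Subgroup.mem_inf.mpr ⟨hx1, ?_⟩
          rw [mem_map_conj] at hx2 ⊢
          exact hx2
        have h4 := Subgroup.card_dvd_of_le h3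
        rwa [Nat.card_congr ((M.subgroupOf L ⊓ (M.subgroupOf L).map
          (MulAut.conj g).toMonoidHom).equivMapOfInjective L.subtype L.subtype_injective).symm.toEquiv] at h4
      exact h1.of_dvd_nat h2
  -- `D ≤ L`
  have hDL : D ≤ L := by
    intro d hd
    obtain ⟨hdM, hdu⟩ := Subgroup.mem_inf.mp hd
    have hsL : s ∈ L := sq_mem_of_odd hL hodd hss
    have ht2 : (d * s * d⁻¹) * (d * s * d⁻¹) = 1 := by
      calc d * s * d⁻¹ * (d * s * d⁻¹) = d * (s * s) * d⁻¹ := by group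
        _ = 1 := by rw [hss]; group
    have ht1 : d * s * d⁻¹ ≠ 1 := by
      intro h1
      rw [mul_inv_eq_one] at h1
      exact hs1 (mul_eq_left.mp h1)
    have htL : d * s * d⁻¹ ∈ L := sq_mem_of_odd hL hodd ht2
    have htM : d * s * d⁻¹ ∈ M := mul_mem (mul_mem hdM hsM) (inv_mem hdM)
    obtain ⟨⟨e, he, hes⟩, -⟩ := Cfsg.Agent.S1225.result (M.subgroupOf L) hse ⟨u, huL⟩
      (orderOf_two (fun h => hu1 (congrArg Subtype.val h)) (Subtype.ext huu)) hu ⟨s, hsL⟩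
      ⟨d * s * d⁻¹, htL⟩ (orderOf_two (fun h => hs1 (congrArg Subtype.val h)) (Subtype.ext hss)) hsM
      (orderOf_two (fun h => ht1 (congrArg Subtype.val h)) (Subtype.ext ht2)) htM
    have hes' : (e : G) * s * (e : G)⁻¹ = d * s * d⁻¹ := congrArg Subtype.val hes
    obtain ⟨he1, he2⟩ := Subgroup.mem_inf.mp he
    rw [mem_map_conj] at he2
    have heD : (e : G) ∈ D := by
      refine Subgroup.mem_inf.mpr ⟨he1, ?_⟩
      rw [mem_map_conj]
      exact he2
    have h1 : (e : G)⁻¹ * d ∈ F M := by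
      refine c.sys.cent c.hM (c.hPF hs) hs1 ?_
      calc s * ((e : G)⁻¹ * d) = (e : G)⁻¹ * ((e : G) * s * (e : G)⁻¹) * d := by group
        _ = (e : G)⁻¹ * d * s := by rw [hes']; group
    have h2 := c.inf_D hu h1 (mul_mem (inv_mem heD) hd)
    rw [inv_mul_eq_one] at h2
    rw [← h2]
    exact e.2
  -- a nontrivial element of `D`
  obtain ⟨⟨δ, hδ, hδs⟩, -⟩ := Cfsg.Agent.S1225.result M c.strong u (orderOf_two hu1 huu) hu s
    y (orderOf_two hs1 hss) hsM (orderOf_two hy1 hyy) hyM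
  have hδ1 : δ ≠ 1 := by
    rintro rfl
    apply hsy
    rw [← hδs]
    group
  have hδF : δ ∉ F M := fun h1 => hδ1 (c.inf_D hu h1 hδ)
  have hFL : F M ≤ L := by
    intro f hf
    obtain ⟨v, hv, rfl⟩ := c.sys.surj c.hM (Subgroup.mem_inf.mp hδ).1 hδF hf
    have h1 : v⁻¹ * (δ * v * δ⁻¹) = (v⁻¹ * δ * v) * δ⁻¹ := by group
    rw [h1]
    refine mul_mem ?_ (inv_mem (hDL hδ))
    have h2 := hL.conj_mem δ (hDL hδ) v⁻¹
    rwa [inv_inv] at h2
  have hML : M ≤ L := by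
    intro m hm
    obtain ⟨d, hd, f, hf, rfl⟩ := c.exists_mul hu huu hu1 hm
    exact mul_mem (hDL hd) (hFL hf)
  -- Frattini
  have := Fact.mk Nat.prime_two
  have h1 := Sylow.normalizer_sup_eq_top' P (c.hPF.trans hFL)
  rw [eq_top_iff, ← h1, sup_le_iff]
  refine ⟨?_, le_rfl⟩
  intro g hg
  apply hML
  by_contra hgM
  have h2 : g * s * g⁻¹ ∈ P := (Subgroup.mem_normalizer_iff.mp hg s).mp hs
  exact hs1 (c.sys.eq_one c.hM hgM (c.hPF hs) (c.hPF h2))

/-! ### the rank one set-up -/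

open MulAction in
theorem Ctx.two_trans [Finite G] (c : Ctx F M P) : MulAction.IsMultiplyPretransitive G (G ⧸ M) 2 := by
  have key : ∀ g₁ g₂ : G, g₁ ∉ M → g₂ ∉ M → ∃ h ∈ M, g₂⁻¹ * (h * g₁) ∈ M := by
    rcases Cfsg.Agent.S1220.result M c.strong with h | ⟨-, h⟩
    · exact h
    · exfalso
      have hodd : Odd (Nat.card (Cfsg.oddCore G)) := by
        have h1 : (Nat.card (Cfsg.pPrimeCore 2 G)).Coprime 2 :=
          Cfsg.Agent.Lib.Cores.pPrimeCore_coprime 2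
        exact Nat.coprime_two_right.mp h1
      have h1 : Cfsg.oddCore G = ⊥ := c.sys.eq_bot_of_solvable c.FT c.hns _
        (Cfsg.Agent.Lib.Cores.pPrimeCore_normal 2) (c.FT _ hodd)
      rw [h1, bot_sup_eq] at h
      exact c.ne_top h
  rw [is_two_pretransitive_iff]
  intro a b x y hab hxy
  induction a using QuotientGroup.induction_on with | _ g₁ =>
  induction b using QuotientGroup.induction_on with | _ g₂ =>
  induction x using QuotientGroup.induction_on with | _ g₃ =>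
  induction y using QuotientGroup.induction_on with | _ g₄ =>
  have h12 : g₁⁻¹ * g₂ ∉ M := fun h => hab (QuotientGroup.eq.mpr h)
  have h34 : g₃⁻¹ * g₄ ∉ M := fun h => hxy (QuotientGroup.eq.mpr h)
  obtain ⟨h, hM, hh⟩ := key _ _ h12 h34
  refine ⟨g₃ * h * g₁⁻¹, ?_, ?_⟩
  · change ((g₃ * h * g₁⁻¹ * g₁ : G) : G ⧸ M) = (g₃ : G ⧸ M)
    rw [QuotientGroup.eq]
    have h1 : (g₃ * h * g₁⁻¹ * g₁)⁻¹ * g₃ = h⁻¹ := by group
    rw [h1]
    exact inv_mem hM
  · change ((g₃ * h * g₁⁻¹ * g₂ : G) : G ⧸ M) = (g₄ : G ⧸ M)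
    rw [QuotientGroup.eq]
    have h1 : (g₃ * h * g₁⁻¹ * g₂)⁻¹ * g₄ = ((g₃⁻¹ * g₄)⁻¹ * (h * (g₁⁻¹ * g₂)))⁻¹ := by group
    rw [h1]
    exact inv_mem hh

theorem stab_one (M : Subgroup G) : MulAction.stabilizer G ((1 : G) : G ⧸ M) = M :=
  MulAction.stabilizer_quotient M

theorem stab_u (M : Subgroup G) (u : G) : MulAction.stabilizer G (u • ((1 : G) : G ⧸ M)) =
    M.map (MulAut.conj u).toMonoidHom := by
  rw [MulAction.stabilizer_smul_eq_stabilizer_map_conj, stab_one]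

theorem Ctx.faithful [Finite G] (c : Ctx F M P) : FaithfulSMul G (G ⧸ M) := by
  refine ⟨fun {a b} hab => ?_⟩
  have hK : M.normalCore = ⊥ := c.sys.eq_bot_of_solvable c.FT c.hns _ inferInstance (by
    have := c.hM.1
    exact Group.isSolvable_of_isSolvable_injective (f := Subgroup.inclusion M.normalCore_le)
      (Subgroup.inclusion_injective _))
  have h1 : b⁻¹ * a ∈ M.normalCore := by
    intro g
    have h2 := hab ((g⁻¹ : G) : G ⧸ M)
    change ((a * g⁻¹ : G) : G ⧸ M) = ((b * g⁻¹ : G) : G ⧸ M) at h2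
    rw [QuotientGroup.eq] at h2
    have h3 : g * (b⁻¹ * a) * g⁻¹ = ((a * g⁻¹)⁻¹ * (b * g⁻¹))⁻¹ := by group
    rw [h3]
    exact inv_mem h2
  rw [hK, Subgroup.mem_bot, inv_mul_eq_one] at h1
  exact h1.symm

theorem Ctx.setup [Finite G] (c : Ctx F M P) {u : G} (hu : u ∉ M) (huu : u * u = 1)
    (hu1 : u ≠ 1) : Cfsg.IsRankOneSetup G (G ⧸ M) ((1 : G) : G ⧸ M) u (F M) where
  two_transitive := c.two_trans
  mul_self := huu
  ne_one := hu1
  not_mem := by rw [stab_one]; exact hu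
  le := by rw [stab_one]; exact c.sys.le M c.hM
  conj_mem := by
    rw [stab_one]
    exact fun h hh x hx => c.sys.conj_mem c.hM hh hx
  inf_eq_bot := by
    rw [stab_u, Subgroup.eq_bot_iff_forall]
    intro x hx
    obtain ⟨hx1, hx2⟩ := Subgroup.mem_inf.mp hx
    exact c.inf_D hu hx1 (Subgroup.mem_inf.mpr ⟨c.sys.le M c.hM hx1, hx2⟩)
  sup_eq := by
    rw [stab_u, stab_one]
    apply le_antisymm
    · exact sup_le (c.sys.le M c.hM) inf_le_left
    · intro m hm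
      obtain ⟨d, hd, f, hf, rfl⟩ := c.exists_mul hu huu hu1 hm
      exact mul_mem ((le_sup_right : _ ≤ F M ⊔ _) hd) ((le_sup_left : F M ≤ _) hf)
  even_card := c.even_F
  odd_card := by
    rw [stab_u, stab_one]
    exact c.strong.2.2 u hu

/-! ### Orders -/

theorem Ctx.card_M [Finite G] (c : Ctx F M P) {u : G} (hu : u ∉ M) (huu : u * u = 1)
    (hu1 : u ≠ 1) : Nat.card M =
      Nat.card ↥(M ⊓ M.map (MulAut.conj u).toMonoidHom) * Nat.card (F M) := by
  rw [← Nat.card_prod]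
  symm
  let φ : ↥(M ⊓ M.map (MulAut.conj u).toMonoidHom) × F M → M := fun x =>
    ⟨(x.1 : G) * x.2, mul_mem (Subgroup.mem_inf.mp x.1.2).1 (c.sys.le M c.hM x.2.2)⟩
  refine Nat.card_congr (Equiv.ofBijective φ ⟨?_, ?_⟩)
  · rintro ⟨⟨d, hd⟩, ⟨f, hf⟩⟩ ⟨⟨d', hd'⟩, ⟨f', hf'⟩⟩ h1
    have h2 : d * f = d' * f' := congrArg Subtype.val h1
    have h3 : d'⁻¹ * d = f' * f⁻¹ := by
      rw [inv_mul_eq_iff_eq_mul, ← mul_assoc, ← h2]
      group
    have h4 : d'⁻¹ * d = 1 := c.inf_D hu (by rw [h3]; exact mul_mem hf' (inv_mem hf))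
      (mul_mem (inv_mem hd') hd)
    have h5 : d' = d := inv_mul_eq_one.mp h4
    subst h5
    have h6 : f = f' := mul_left_cancel h2
    subst h6
    rfl
  · rintro ⟨m, hm⟩
    obtain ⟨d, hd, f, hf, rfl⟩ := c.exists_mul hu huu hu1 hm
    exact ⟨⟨⟨d, hd⟩, ⟨f, hf⟩⟩, rfl⟩

open MulAction in
theorem Ctx.card_index [Finite G] (c : Ctx F M P) {u : G} (hu : u ∉ M) (huu : u * u = 1)
    (hu1 : u ≠ 1) : Nat.card (G ⧸ M) = Nat.card (F M) + 1 := by
  rw [← Finite.card_option]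
  symm
  let φ : Option (F M) → G ⧸ M := fun x => x.elim ((1 : G) : G ⧸ M) (fun f => (((f : G) * u : G) : G ⧸ M))
  have hne : ∀ f : F M, (((f : G) * u : G) : G ⧸ M) ≠ ((1 : G) : G ⧸ M) := by
    intro f h1
    rw [QuotientGroup.eq, mul_one, inv_mem_iff] at h1
    apply hu
    have h2 := mul_mem (inv_mem (c.sys.le M c.hM f.2)) h1
    rwa [inv_mul_cancel_left] at h2
  refine Nat.card_congr (Equiv.ofBijective φ ⟨?_, ?_⟩)
  · rintro (_ | f) (_ | f') h1
    · rfl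
    · exact absurd h1.symm (hne f')
    · exact absurd h1 (hne f)
    · have h2 : (((f : G) * u : G) : G ⧸ M) = (((f' : G) * u : G) : G ⧸ M) := h1
      rw [QuotientGroup.eq] at h2
      have h3 : u⁻¹ * ((f : G)⁻¹ * f') * u ∈ M := by
        have h4 : ((f : G) * u)⁻¹ * (f' * u) = u⁻¹ * ((f : G)⁻¹ * f') * u := by group
        rwa [h4] at h2
      have h5 := c.sys.inf_conj c.hM hu (mul_mem (inv_mem f.2) f'.2) h3
      rw [inv_mul_eq_one] at h5
      rw [Subtype.ext h5]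
  · intro x
    by_cases hx : x = ((1 : G) : G ⧸ M)
    · exact ⟨none, hx.symm⟩
    · have hu' : ((u : G) : G ⧸ M) ≠ ((1 : G) : G ⧸ M) := by
        intro h1
        rw [QuotientGroup.eq, mul_one, inv_mem_iff] at h1
        exact hu h1
      obtain ⟨h, h1, h2⟩ := (is_two_pretransitive_iff.mp c.two_trans) hu'.symm (Ne.symm hx)
      have hM : h ∈ M := by
        have h3 : ((h * 1 : G) : G ⧸ M) = ((1 : G) : G ⧸ M) := h1
        rw [mul_one, QuotientGroup.eq, mul_one, inv_mem_iff] at h3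
        exact h3
      obtain ⟨d, hd, f, hf, hdf⟩ := c.exists_mul hu huu hu1 (inv_mem hM)
      refine ⟨some ⟨f⁻¹, inv_mem hf⟩, ?_⟩
      rw [← h2]
      change ((f⁻¹ * u : G) : G ⧸ M) = ((h * u : G) : G ⧸ M)
      rw [QuotientGroup.eq]
      have h3 : h = f⁻¹ * d⁻¹ := by
        rw [← inv_inv h, hdf]; group
      rw [h3]
      have h4 : (f⁻¹ * u)⁻¹ * (f⁻¹ * d⁻¹ * u) = (u⁻¹ * d * u)⁻¹ := by group
      rw [h4]
      exact inv_mem (mem_map_conj.mp (Subgroup.mem_inf.mp hd).2)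

theorem Ctx.card_G [Finite G] (c : Ctx F M P) {u : G} (hu : u ∉ M) (huu : u * u = 1)
    (hu1 : u ≠ 1) : Nat.card G = (Nat.card (F M) + 1) *
      (Nat.card ↥(M ⊓ M.map (MulAut.conj u).toMonoidHom) * Nat.card (F M)) := by
  rw [← c.card_index hu huu hu1, ← c.card_M hu huu hu1]
  exact Subgroup.card_eq_card_quotient_mul_card_subgroup M

/-- if `F(M) = P` then `|D| + 1 ≤ |Z(P)|` -/
theorem Ctx.card_D_le [Finite G] (c : Ctx F M P) {u : G} (hu : u ∉ M) (hFP : F M = (P : Subgroup G)) :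
    Nat.card ↥(M ⊓ M.map (MulAut.conj u).toMonoidHom) + 1 ≤ Nat.card (Subgroup.center (P : Subgroup G)) := by
  -- a central involution of `P`
  obtain ⟨x, hx, y, hy, hx1, hy1, hxy, hxx, hyy, -⟩ := c.exists_inv
  have hPnt : Nontrivial (P : Subgroup G) := ⟨⟨x, hx⟩, 1, fun h1 => hx1 (congrArg Subtype.val h1)⟩
  have hZ : Nontrivial (Subgroup.center (P : Subgroup G)) := P.2.center_nontrivial
  have hZp : IsPGroup 2 (Subgroup.center (P : Subgroup G)) := P.2.to_subgroup _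
  have := Fact.mk Nat.prime_two
  obtain ⟨⟨⟨z, hzP⟩, hzZ⟩, hz⟩ : ∃ z : Subgroup.center (P : Subgroup G), orderOf z = 2 := by
    have h1 : 2 ∣ Nat.card (Subgroup.center (P : Subgroup G)) := by
      rcases hZp.card_eq_or_dvd with h2 | h2
      · exact absurd h2 (Finite.one_lt_card_iff_nontrivial.mpr hZ).ne'
      · exact h2
    exact exists_prime_orderOf_dvd_card' 2 h1
  rw [Subgroup.orderOf_mk, Subgroup.orderOf_mk] at hz
  have hz1 : z ≠ 1 := by
    rintro rfl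
    rw [orderOf_one] at hz
    norm_num at hz
  have hzc : ∀ x ∈ P, x * z = z * x := by
    intro x hx
    exact congrArg Subtype.val (Subgroup.mem_center_iff.mp hzZ ⟨x, hx⟩)
  -- `M` normalises `P`
  have hMP : ∀ m ∈ M, ∀ x ∈ (P : Subgroup G), m * x * m⁻¹ ∈ (P : Subgroup G) := by
    intro m hm x hx
    have hx' : x ∈ F M := by rw [hFP]; exact hx
    have h1 := c.sys.conj_mem c.hM hm hx'
    rwa [hFP] at h1
  have hcen : ∀ d ∈ M, ∀ hd : d * z * d⁻¹ ∈ (P : Subgroup G),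
      (⟨d * z * d⁻¹, hd⟩ : (P : Subgroup G)) ∈ Subgroup.center (P : Subgroup G) := by
    intro d hd hdP
    rw [Subgroup.mem_center_iff]
    rintro ⟨w, hw⟩
    apply Subtype.ext
    change w * (d * z * d⁻¹) = d * z * d⁻¹ * w
    have h1 : d⁻¹ * w * d ∈ (P : Subgroup G) := by
      have := hMP d⁻¹ (inv_mem hd) w hw
      rwa [inv_inv] at this
    have h2 := hzc _ h1
    calc w * (d * z * d⁻¹) = d * ((d⁻¹ * w * d) * z) * d⁻¹ := by group
      _ = d * z * d⁻¹ * w := by rw [h2]; group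
  rw [← Finite.card_option]
  let φ : Option ↥(M ⊓ M.map (MulAut.conj u).toMonoidHom) → Subgroup.center (P : Subgroup G) := fun o =>
    o.elim 1 (fun d => ⟨⟨(d : G) * z * (d : G)⁻¹, hMP _ (Subgroup.mem_inf.mp d.2).1 z hzP⟩,
      hcen _ (Subgroup.mem_inf.mp d.2).1 _⟩)
  refine Nat.card_le_card_of_injective φ ?_
  have hne : ∀ d : G, d * z * d⁻¹ ≠ 1 := by
    intro d h1
    rw [mul_inv_eq_one] at h1
    exact hz1 (mul_eq_left.mp h1)
  rintro (_ | ⟨d, hd⟩) (_ | ⟨d', hd'⟩) h1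
  · rfl
  · exact absurd (congrArg (fun x : Subgroup.center (P : Subgroup G) => ((x : (P : Subgroup G)) : G)) h1).symm
      (hne d')
  · exact absurd (congrArg (fun x : Subgroup.center (P : Subgroup G) => ((x : (P : Subgroup G)) : G)) h1)
      (hne d)
  · have h2 : d * z * d⁻¹ = d' * z * d'⁻¹ :=
      congrArg (fun x : Subgroup.center (P : Subgroup G) => ((x : (P : Subgroup G)) : G)) h1
    have h3 : d'⁻¹ * d ∈ F M := by
      refine c.sys.cent c.hM (c.hPF hzP) hz1 ?_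
      calc z * (d'⁻¹ * d) = d'⁻¹ * (d' * z * d'⁻¹) * d := by group
        _ = d'⁻¹ * d * z := by rw [← h2]; group
    have h4 := c.inf_D hu h3 (mul_mem (inv_mem hd') hd)
    rw [inv_mul_eq_one] at h4
    subst h4
    rfl

/-- the arithmetic excluding `PSU(3, q)` -/
theorem arith {t o d g : ℕ} (ht : 3 ≤ t) (ho : o ≠ 0) (hd : d ≠ 0) (hg : g ≠ 0)
    (h : ((t + 1) ^ 3 * o + 1) * (g * d * o) = (t * (t + 2)) * ((t + 2) * (t ^ 2 + t + 1))) :
    o = 1 ∧ g * d = t * (t + 2) := by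
  have hm : 0 < g * d * o := Nat.pos_of_ne_zero (mul_ne_zero (mul_ne_zero hg hd) ho)
  set m := g * d * o with hm'
  -- in `ℤ`
  have h1 : ((m : ℤ) - t * (t + 2)) = (t + 1) ^ 3 * (t * (t + 2) - o * m) := by
    have h2 : (((t : ℤ) + 1) ^ 3 * o + 1) * m = (t * (t + 2)) * ((t + 2) * (t ^ 2 + t + 1)) := by
      exact_mod_cast h
    linear_combination h2
  have ho1 : (1 : ℤ) ≤ o := by exact_mod_cast Nat.one_le_iff_ne_zero.mpr ho
  have hm1 : (1 : ℤ) ≤ m := by exact_mod_cast hm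
  have ht1 : (3 : ℤ) ≤ t := by exact_mod_cast ht
  set x : ℤ := t * (t + 2) - o * m with hx
  have hx0 : x = 0 := by
    rcases lt_trichotomy x 0 with h2 | h2 | h2
    · exfalso
      have h3 : x ≤ -1 := by omega
      have h4 : ((t : ℤ) + 1) ^ 3 * x ≤ ((t : ℤ) + 1) ^ 3 * (-1) :=
        mul_le_mul_of_nonneg_left h3 (by positivity)
      nlinarith
    · exact h2
    · exfalso
      have h3 : (1 : ℤ) ≤ x := by omega
      have h4 : ((t : ℤ) + 1) ^ 3 * 1 ≤ ((t : ℤ) + 1) ^ 3 * x :=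
        mul_le_mul_of_nonneg_left h3 (by positivity)
      have h5 : (m : ℤ) ≤ o * m := by nlinarith
      have h6 : (0 : ℤ) < ((t : ℤ) + 1) ^ 3 := by positivity
      nlinarith
  rw [hx0, mul_zero, sub_eq_zero] at h1
  have h2 : (o : ℤ) * m = 1 * m := by
    rw [one_mul]
    have := hx
    rw [hx0] at this
    linarith
  have h3 : (o : ℤ) = 1 := mul_right_cancel₀ (by omega : (m : ℤ) ≠ 0) h2
  have h4 : o = 1 := by exact_mod_cast h3
  refine ⟨h4, ?_⟩
  have h5 : m = t * (t + 2) := by exact_mod_cast h1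
  rw [hm', h4, mul_one] at h5
  exact h5

theorem Ctx.not_psu [Finite G] (c : Ctx F M P) {K : Type} [Field K] [Fintype K] {n : ℕ}
    (hn : 2 ≤ n) (hK : Fintype.card K = (2 ^ n) ^ 2) (e : G ≃* Cfsg.PSU 3 K (2 ^ n)) : False := by
  have := Fact.mk Nat.prime_two
  obtain ⟨u, hu, huu, hu1⟩ := c.exists_u
  have hfin : Finite (Cfsg.PSU 3 K (2 ^ n)) := Finite.of_equiv _ e.toEquiv
  let S : Sylow 2 (Cfsg.PSU 3 K (2 ^ n)) := P.mapSurjective (f := e.toMonoidHom) e.surjective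
  obtain ⟨hS1, hS2, -⟩ := Cfsg.Agent.S1141.result hn hK S
  let eP : (P : Subgroup G) ≃* (S : Subgroup (Cfsg.PSU 3 K (2 ^ n))) :=
    (P : Subgroup G).equivMapOfInjective e.toMonoidHom e.injective
  have hP1 : Nat.card (P : Subgroup G) = (2 ^ n) ^ 3 := by
    rw [Nat.card_congr eP.toEquiv]; exact hS1
  have hP2 : Nat.card (Subgroup.center (P : Subgroup G)) = 2 ^ n := by
    rw [Nat.card_congr (Subgroup.centerCongr eP).toEquiv]; exact hS2
  obtain ⟨t, ht⟩ : ∃ t, 2 ^ n = t + 1 := ⟨2 ^ n - 1, by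
    have := Nat.one_le_two_pow (n := n); omega⟩
  have h4 : 4 ≤ 2 ^ n := by
    calc 4 = 2 ^ 2 := by norm_num
      _ ≤ 2 ^ n := Nat.pow_le_pow_right (by norm_num) hn
  have ht3 : 3 ≤ t := by omega
  have hcard := Cfsg.Agent.HKS.EndOrd.card_psu_three (F := K) (t := t) (by rw [← ht]; exact hK)
  rw [← ht, ← Nat.card_congr e.toEquiv, c.card_G hu huu hu1, ht] at hcard
  obtain ⟨o, ho⟩ : Nat.card (P : Subgroup G) ∣ Nat.card (F M) := Subgroup.card_dvd_of_le c.hPF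
  rw [hP1, ht] at ho
  have hd0 : Nat.card ↥(M ⊓ M.map (MulAut.conj u).toMonoidHom) ≠ 0 := Nat.card_pos.ne'
  have hdle := c.card_D_le hu
  set d := Nat.card ↥(M ⊓ M.map (MulAut.conj u).toMonoidHom) with hd
  have ho0 : o ≠ 0 := by
    rintro rfl
    rw [mul_zero] at ho
    exact Nat.card_pos.ne' ho
  set g := Nat.gcd 3 (t + 2) with hg
  have hg3 : g ≤ 3 := Nat.le_of_dvd (by norm_num) (Nat.gcd_dvd_left 3 (t + 2))
  have hg0 : g ≠ 0 := Nat.gcd_ne_zero_left (by norm_num)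
  have key : ((t + 1) ^ 3 * o + 1) * (g * d * o) = (t * (t + 2)) * ((t + 2) * (t ^ 2 + t + 1)) := by
    have h5 : 0 < (t + 1) ^ 3 := by positivity
    apply Nat.eq_of_mul_eq_mul_left h5
    calc (t + 1) ^ 3 * (((t + 1) ^ 3 * o + 1) * (g * d * o))
        = g * (((t + 1) ^ 3 * o + 1) * (d * ((t + 1) ^ 3 * o))) := by ring
      _ = (t + 1) ^ 3 * (t * ((t + 2) ^ 2 * (t ^ 2 + t + 1))) := by rw [← ho]; exact hcard
      _ = (t + 1) ^ 3 * (t * (t + 2) * ((t + 2) * (t ^ 2 + t + 1))) := by ring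
  obtain ⟨ho1, hgd⟩ := arith ht3 ho0 hd0 hg0 key
  have hFP : F M = (P : Subgroup G) := by
    symm
    apply Subgroup.eq_of_le_of_card_ge c.hPF
    rw [ho, ho1, mul_one, hP1, ht]
  have h5 := hdle hFP
  rw [hP2, ht] at h5
  have h6 : d ≤ t := by omega
  have h7 : t * (t + 2) ≤ 3 * t := by
    rw [← hgd]
    exact Nat.mul_le_mul hg3 h6
  nlinarith

theorem Ctx.main [Finite G] (c : Ctx F M P) :
    (∃ (K : Type) (_ : Field K) (_ : Fintype K), (∃ n : ℕ, 2 ≤ n ∧ Fintype.card K = 2 ^ n) ∧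
        Nonempty (G ≃* Matrix.SpecialLinearGroup (Fin 2) K)) ∨
      Cfsg.Lie.IsoSuzuki G := by
  obtain ⟨u, hu, huu, hu1⟩ := c.exists_u
  obtain ⟨x, hx, y, hy, hx1, hy1, hxy, hxx, hyy, hc⟩ := c.exists_inv
  have := c.faithful
  obtain ⟨L, hL, hodd, hcases⟩ := Cfsg.Agent.S1136.result (c.setup hu huu hu1)
    ⟨x, y, hx1, hy1, hxy, hxx, hyy, hc⟩
  have hLtop := c.eq_top hu huu hu1 hL hodd
  subst hLtop
  let e0 : G ≃* (⊤ : Subgroup G) := Subgroup.topEquiv.symm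
  rcases hcases with ⟨K, hK1, hK2, ⟨n, hn, hK⟩, ⟨e⟩⟩ | ⟨K, hK1, hK2, m, hm, hK, ⟨e⟩⟩ | ⟨K, hK1, hK2, n, hn, hK, ⟨e⟩⟩
  · left
    have hchar : CharP K 2 := by
      have h2 := Fact.mk Nat.prime_two
      exact charP_of_card_eq_prime_pow hK
    obtain ⟨e2⟩ := Cfsg.Agent.WeakTI.PslTwo.nonempty_equiv (F := K)
    exact ⟨K, hK1, hK2, ⟨n, hn, hK⟩, ⟨(e0.trans e).trans e2.symm⟩⟩
  · right
    exact ⟨K, hK1, hK2, m, hm, hK, ⟨e0.trans e⟩⟩
  · exact (c.not_psu hn hK (e0.trans e)).elim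

end Cfsg.Agent.H547.FrobSys
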